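import Cfsg.Agent.LeechMat.Orbit
import Cfsg.Agent.Leech.Basic
import Cfsg.Agent.H633.Ore.Lin

/-!
# Generators of `Co2` and the code of a lattice vector (helper612)

`tt k : Spor.Co2`: three involutions (classes 2A, 2C, 2B); `cdv x`: 22 bits `(x, del k) / 8 mod 2` for the dual basis
`del` (coordinates of `x` modulo `2 Λ + ℤ U` in the basis `bet`); `cdv_tt`: the generators act on codes by matrices.
-/

set_option autoImplicit false
set_option maxRecDepth 100000

namespace Cfsg.Agent.H612.CoT.Gens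

open Cfsg Cfsg.Agent.LeechMat.Code Cfsg.Agent.LeechMat.Core Cfsg.Agent.LeechMat.Gen Cfsg.Agent.LeechMat.Elements
  Cfsg.Agent.LeechMat.Orbit Cfsg.Agent.H633.Ore

/-! ### data -/

def cols0 : List ℕ := [0xb420e8420e83a10841d0841d284212, 0x84a50739d07424e94a0e73a10939d0, 0x849d0949d07425274a1294a10939d0, 0x84a5094a507424e74a0e93a1074a50, 0x7420e8420e83a10841d0841ca84212, 0x942128421284a10842508414e8420e, 0x849d0939d0741ce93a1293a10749d0, 0x839d093a507424e73a0e74a10949d0, 0x84a50749d0741d273a0e74a10749d0, 0x942128421284a10841508424e8420e, 0x849d0949d09425293a0e73a1094a50, 0x849d0939d0941ce74a0e74a1073a50, 0x839d0749d09424e74a1273a10749d0, 0x839d0739d0741d274a0e93a1094a50, 0x942128421282a10842508424e8420e, 0x839d094a50741d294a0e73a10739d0, 0x942128420a84a10842508424e8420e, 0x83a50949d0941ce73a0e93a10939d0, 0x84a5093a50941d274a1273a10949d0, 0x849d074a50941ce94a0e94a10949d0, 0x9420a8421284a10842508424e8420e, 0x849d074a50741ce73a1273a1093a50, 0x83a50949d0741ce94a1274a1094a50,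 0x942128421284a10842508424e84216]

def ims0 : List ℕ := [0xa42108421084210842108421084214, 0x8c6317bdf17c62f8c62f7be2f8bdf3, 0x8c5f18c5f17c6317c6318c62f8bdf3, 0x8c6318c6317c62f7c62f8be2f7c633, 0x842108421084210842108420c84214, 0x942128421284a1084250841ce84212, 0x8c5f18bdf17c5ef8be318be2f7c5f3, 0x8bdf18be317c62f7be2f7c62f8c5f3, 0x8c6317c5f17c5f17be2f7c62f7c5f3, 0x942128421284a10841d08424e84212, 0x8c5f18c5f18c6318be2f7be2f8c633, 0x8c5f18bdf18c5ef7c62f7c62f7be33, 0x8bdf17c5f18c62f7c6317be2f7c5f3, 0x8bdf17bdf17c5f17c62f8be2f8c633, 0x942128421283a10842508424e84212, 0x8bdf18c6317c5f18c62f7be2f7bdf3, 0x942128420e84a10842508424e84212, 0x8be318c5f18c5ef7be2f8be2f8bdf3, 0x8c6318be318c5f17c6317be2f8c5f3, 0x8c5f17c6318c5ef8c62f8c62f8c5f3, 0x9420e8421284a10842508424e84212, 0x8c5f17c6317c5ef7be317be2f8be33, 0x8be318c5f17c5ef8c6317c62f8c633, 0x942128421284a10842508424e84216, 0x8c5ef8c5ef7bdef7c5ef7bdef8c5ed, 0x9be318c5ef8bdef7c6317be2f8c5f1, 0x8bdf17c5ef7bdef8ce2f7be2f8c5ef, 0x8bdef8c5f17c5f17ce317be2f8c5f1,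 0x8421084a10841ce74a1083a1094a10, 0x8bdef7c5ef8c5ef7c62f8be2d8c5f1, 0x9421084212841d07425083a0e94210, 0x8c5f18c6317bdaf8c6317be2f8c5f1, 0x8bdef8c6318bdef7c62f7be2f8c5af, 0x8c5ef7c62f7c5b17c62f7be2f8c5ef, 0x9421084a10841ce842108424e9420e, 0x941d084a10842108425073a4e84210, 0x8bdf18c5ef7c5af7c62f7be2f8be31]

/-- codes of the images of `del` -/
def ys0 : List ℕ := [0x83a4e93a4e849ce939d083a1094a14, 0x83a1064a1083250841d07421293a10, 0x8c5b15c5f18b5f18b5b18be2f7ce33, 0x8ce318be2f7be2f7c5ef8b5b19c66f, 0x8c6718c5f17be6f8c5ef6be2f8be2f, 0x842508421093250941ce7421284210, 0x8bdaf6c5f17c5ef6be738c5f16be33, 0x9bdf17c5af7c62f7ce2d7bdb18c5f1, 0x841d08321084210949d2839d074210, 0x9420ea4292a4a10841cc8425284212, 0x8b66f7be6f9be2f8c62d7be6f7c5f3, 0x941ce74a1074a5083a107429083a12, 0x8bdf17c5af7c6338b62d7c6738bdf3, 0x84a10839ce94250741d0749ce84210, 0x841d284a1073a10841d08420ea4a10, 0x8bdef8c62f7b5ef7be2f9bdf58bdef, 0x94a52839ce949d294a10841d083a12, 0x94a0e849ce74a127325084a5284252, 0x8520e8421074a0e9421064210739d0,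 0x7bdef8c62f7bdf18d5ef7bdf17bdf1, 0x8c6338c5f18be2f9bdf36bdef8c633, 0x939d0639d2742108421074a0e84252]

/-- matrix modulo two -/
def G0 : List ℕ := [1903316, 2, 3123864, 1786374, 3002798, 1110615, 3467474, 128, 741997, 162082, 1961409, 1112695, 4096, 591951, 16384, 195362, 2488817, 131072, 754560, 2631964, 2245469, 2863225]

def cols1 : List ℕ := [0xb421284a12841d094a108421084212, 0x84a50941d073a0e8425293a5274a50, 0x839d09425094a1284252939d273a50, 0x83a50941d093a12841ce93a4e739d0, 0x84a509425093a12841ce749d274a50, 0x84a50941d074a12841d2949ce93a50, 0x84a507425094a0e841d294a52739d0, 0x839d09425093a0e841d294a4e94a50, 0x83a507425074a128424e94a4e74a50, 0x83a50741d094a0e841d2739ce74a50, 0x7421284a12841d092a108421084212, 0x7421284a0a841d094a108421084212, 0x83a509425074a12841d273a52949d0, 0x9421683a0e8425073a10842108420e, 0x849d0941d094a128425274a4e749d0, 0x83a50941d094a0e8424e949d2949d0, 0x7421284a12841d054a108421084212, 0x839d0741d073a12841d2949d2749d0, 0x7421282a12841d094a108421084212,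 0x849d0741d094a12841ce93a5294a50, 0x7421284a12842d094a108421084212, 0x83a50741d093a128425274a5293a50, 0x839d0941d074a0e841ce74a5273a50, 0x9420e83a0e8425073a108421084216]

def ims1 : List ℕ := [0xa42108421084210842108421084214, 0x8c62f8bdef7be2f7be318be317c633, 0x8bdef8be2f8c6317be318bdf17be33, 0x8be2f8bdef8be317bdef8be2f7bdf3, 0x8c62f8be2f8be317bdef7c5f17c633, 0x8c62f8bdef7c6317bdf18c5ef8be33, 0x8c62f7be2f8c62f7bdf18c6317bdf3, 0x8bdef8be2f8be2f7bdf18c62f8c633, 0x8be2f7be2f7c6317be2f8c62f7c633, 0x8be2f7bdef8c62f7bdf17bdef7c633, 0x842108421084210832108421084214, 0x842108420c84210842108421084214, 0x8be2f8be2f7c6317bdf17be318c5f3, 0x9421283a0e8425073a108421084212, 0x8c5ef8bdef8c6317be317c62f7c5f3, 0x8be2f8bdef8c62f7be2f8c5f18c5f3, 0x842108421084210642108421084214, 0x8bdef7bdef7be317bdf18c5f17c5f3, 0x842108321084210842108421084214, 0x8c5ef7bdef8c6317bdef8be318c633, 0x842108421084290842108421084214, 0x8be2f7bdef8be317be317c6318be33, 0x8bdef8bdef7c62f7bdef7c6317be33, 0x9420e83a0e8425073a108421084216,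 0x7be338c5f18c5f18c5f18c6317c62f, 0x8bdf18bdf17c5f17c5f17c6317c5f3, 0x84212941d084a10742108425284a10, 0x83a1293a1084a50842108421284212, 0x83a12839d084212841d08425284210, 0x842128421084252741d08421284a12, 0x84212839d0842528421284a1084212, 0x84210839d094a108421084a5284212, 0x7bdf18bdf18c6318c5f18c6318cdf1, 0x7be337bdf18c6317c62f8c6318c631, 0x7bdf17c5b18c6317c5f17c6317c631, 0x7be318c5f18c6317be317c6318c5f3, 0x83a12841ce842107421084a1284212]

/-- codes of the images of `del` -/
def ys1 : List ℕ := [0x9421073a128320c8418e84a1284212, 0x9bdef8c5f17bdf18be716be318ce2d, 0xa4a506425094a12832106425084a10, 0x8c6338bdb18b5b18bdf18be2f7b62f, 0x7be2f9c5b17bdef8be317be2f6c631, 0x8c5ef8c5f17bdaf9be2f7be2f7cdef, 0x9be2f7c66d7c6737c6317c6319b5f1, 0x9be339c5ef6c5f17bdf19be318c631, 0x8ce718be2f8c5ed8c5f17bdf18bdef, 0x839d0741d093a0ea41ce939ce949d4, 0x8c5ef8bdf17b62f7c5ed7be2f8d5b3, 0x8b62f7ce318be6f7be717be318c633, 0x939d074a507420e732909421084a12, 0x7c6318c66f7bdb18c5f17bdef7c671, 0x8bdf18bdf19c5f17b5f17c6317c66f,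 0x9bdb17c5f18bdf18c6319c6318bdad, 0x8ce317bdef6c5af7c62f8bdb17be33, 0x8b5f16ce717be317be6f8c62f7b633, 0x7428e84a108420e94a509425284252, 0x8be319bdef8c5ef8c62d8bdf38c5ef, 0x8c62d8bdf17c5af8b5f16c6317be33, 0x9c6318c62d7c66f7be316c62f8c671]

/-- matrix modulo two -/
def G1 : List ℕ := [3358281, 1951360, 2627824, 605129, 640729, 32, 1035754, 1808437, 2675355, 2961243, 1939987, 3814955, 2985623, 1318987, 3571848, 628278, 3885901, 4075224, 2546515, 1277485, 1758706, 1660339]

def cols2 : List ℕ := [0xa421083a108420e83a1284a52841d4, 0x949ce94252939d0741d09421093a0e, 0x8421083a108420e64a12839ce851d0, 0x8421083a108428e84a0e83a52a4250, 0x74a4e941d2749d0742507421093a12, 0x739d27424e739d0741d07421093a12, 0x739d2941d293a50742509421073a12, 0x8421083a106420e83a0ea49ce84250, 0x749ce9425273a50941d07421074a12, 0x8421084a908420e84a8e849d2841d0, 0x939d2941d2739d0942507421094a0e, 0x8421083a108420ea4a12839ce831d0, 0x93a529425274a50741d07421073a0e, 0x8421084a108429283a12849cea41d0, 0x8419083a108521283a0e839d2841d0,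 0x8421083a10a420e83a0e649ce84250, 0x8421063a148421284a12849d284250, 0x8421083a908421283a9283a4e84250, 0x949ce741ce73a50742507421073a0e, 0x84210a3a0c8421284a12849d284250, 0x8521483a108421284a0e84a4e841d0, 0x8429083a108321283a0e839d2841d0, 0x8521484a108420e83a12839d284250, 0xa421084a108421284a0e839ce84254]

def ims2 : List ℕ := [0xa42108421084210842108421084214, 0x9c5ef8c6318bdf17c5ef8bdef8be31, 0x94210842108421074a10839ce84a12, 0x94210842108425084a0e83a1094252, 0x8c62f8c5f17c5f17c62f7bdef8be33, 0x8bdf17c62f7bdf17c5ef7bdef8be33, 0x8bdf18c5f18be317c62f8bdef7be33, 0x9421084210742108420e941ce84252, 0x8c5ef8c6317be318c5ef7bdef7c633, 0x9421084a508421084a4e841d084212, 0x9bdf18c5f17bdf18c62f7bdef8c631, 0x94210842108421094a10839ce83a12, 0x9be318c6317c6317c5ef7bdef7be31, 0x9421084a108425284210841ce94212, 0x941d08421084a128420e839d084212, 0x9421084210942108420e741ce84252, 0x94210742128421284a10841d084252, 0x9421084250842128425083a0e84252, 0x9c5ef7c5ef7be317c62f7bdef7be31, 0x942109420e8421284a10841d084252,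 0x94a12842108421284a0e8420e84212, 0x942508421083a128420e839d084212, 0x94a1284a108421084210839d084252, 0xa421084a108421284a0e839ce84254, 0x7c5f18b6317be2f7be317c5f18bdef, 0x9c5f17be317c6317be317bdf17be31, 0x8c5f18be318c6317bdf17c5b18be2f, 0x94a12842108425074210741ce84210, 0x8c6318be2f7be717be317bdf18be2f, 0x8c6318be317c6337c6317c5ef8be31, 0x8c5f17be2f7be337be2f7bdef8bdf1, 0x8c5f18bdef8be317be2f7bdb17be31, 0x8c5f18b62f7c6317be2f7c5ef7be2f, 0x84a1083a1083a5284210749d084210, 0x84a1283a508421284250841d284210, 0x9421283a12842128420e741d084210, 0x8c6317be318be318be317bdaf8be31]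

/-- codes of the images of `del` -/
def ys2 : List ℕ := [0x94a50849d083a1083a9094a5083a92, 0x9424e94250849d0831d084212849ce, 0x8b62facdf17c6338be2f7c5f37c5b3, 0x8bdef7bdef7b62f7be318be33abdef, 0x949d084252841ce8420e83a129420e, 0x941ce94210849ce93a10842528420e, 0x83a9284210842528419083a0e741d4, 0x9bdf18be717be2f7bdb37c5ef9be31, 0x83a10849d09420e7421084a10831d0, 0xa421083a0c8420ea4a8e84a4e84250, 0xa4a0e84210852129420e84a5083a90, 0x9c6718be338bdf18c5ed8c5ef7cdf1, 0x9bdef8c6338bdf19bdf18c5ed7d631, 0x8420e84212641ce84a1284210839d0, 0x84210942107421073a508419294a10, 0x83a108320e94250832129425084a10, 0x941ce74a10939d084a147421083a12, 0x8c6317bdf37b6319c5f18be2f7d5f3, 0x84a1093a12931ce849ce8421073a10, 0x8c62f8bdef9c62d7bdf16c5ef8be2f, 0x9bdf18cdf17bdaf7be2f7b5f37be31, 0x8c6318ce317c5f18bdaf8c5af8bdb3]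

/-- matrix modulo two -/
def G2 : List ℕ := [2698101, 203020, 3379360, 3425409, 3425433, 1313714, 2751783, 986240, 3639956, 2082993, 24602, 47625, 184662, 3216872, 3279100, 3265010, 2725686, 1811166, 949601, 3382938, 712650, 1109424]

/-- codes of the dual basis -/
def del : List ℕ := [0x94a1084a508320e7420e949d283212, 0x7424e83a0e84a1274210831d074252, 0x93a4e939ce74a5274a52749d2739d2, 0x7424e84a107424e84a0e84250a4252, 0x84a1074210849d084a5083a1094290, 0x741ce8420e849d084a10839d083a52, 0x9be717b5ef7be338b5b17c62f7c5b1, 0x8c5ef8be318be738c5f18be6f8c673, 0x7bdef7c5af8be318be2d7ce317be31, 0x939d294a4e939ce94a4e939ce939d2, 0x9bdb18c6318c5f17bdef8b5b18ae31, 0x9be737b5f18bdf17c6318bdaf7c631, 0x9bdef7b6318be2f7cdf38bdad6c631, 0x7bdef7c5f16bdf19c6318be337c631, 0x84a4e9421084a5074a509421284a10, 0x6be2f8be6f8c62f7bdaf8c5ed8c5f3, 0x941ce84a1283a0e942106425074252, 0x9425273a1273a0e849d4841ce849d2, 0x84252841d0939909421284a1084290, 0x7c5ef8c5efabe318bdef7bdf18c631, 0x9ce2d7c5ef7c5b17ce2f7c6317be31,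 0x9c6317b5af7c6718be318be316be31]


def cols : ℕ → List ℕ
  | 0 => cols0
  | 1 => cols1
  | _ => cols2

def ims : ℕ → List ℕ
  | 0 => ims0
  | 1 => ims1
  | _ => ims2

def ys : ℕ → List ℕ
  | 0 => ys0
  | 1 => ys1
  | _ => ys2

/-- the matrices modulo two (22 columns) -/
def Gt : ℕ → List ℕ
  | 0 => G0
  | 1 => G1
  | _ => G2

def es : ℕ → ℕ
  | 0 => 2034389
  | 1 => 4108777
  | _ => 2854456

/-! ### the bit of a pair -/

/-- the bit `(x, y) / 8 mod 2` -/
def bt (x y : GolayPt → ℤ) : Bool := decide (dotInt x y % 16 = 8)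

/-- the bit of two codes -/
def btc (a b : ℕ) : Bool := decide (dotc a b % 16 = 8)

theorem btc_eq (a b : ℕ) : btc a b = bt (vec a) (vec b) := by rw [btc, bt, dotc_eq]

theorem bt_comm (x y : GolayPt → ℤ) : bt x y = bt y x := by rw [bt, bt, dotInt_comm]

theorem bt_add {x y y' : GolayPt → ℤ} (hx : x ∈ leechLattice) (hy : y ∈ leechLattice) (hy' : y' ∈ leechLattice) :
    bt x (y + y') = (bt x y ^^ bt x y') := by
  have h1 := Leech.Basic.eight_dvd_dotInt hx hy
  have h2 := Leech.Basic.eight_dvd_dotInt hx hy'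
  rw [bt, bt, bt, dotInt_add_right, Bool.eq_iff_iff, Bool.xor_iff_ne]
  generalize dotInt x y = a at *
  generalize dotInt x y' = b at *
  have h3 : a % 16 = 0 ∨ a % 16 = 8 := by omega
  have h4 : b % 16 = 0 ∨ b % 16 = 8 := by omega
  rcases h3 with h3 | h3 <;> rcases h4 with h4 | h4 <;> simp [h3, h4] <;> omega

theorem bt_neg {x y : GolayPt → ℤ} (hx : x ∈ leechLattice) (hy : y ∈ leechLattice) : bt x (-y) = bt x y := by
  have h1 := Leech.Basic.eight_dvd_dotInt hx hy
  rw [bt, bt, dotInt_neg_right, decide_eq_decide]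
  omega

theorem bt_zero (x : GolayPt → ℤ) : bt x 0 = false := by
  have : dotInt x 0 = 0 := by
    unfold dotInt
    exact Finset.sum_eq_zero fun i _ => by rw [Pi.zero_apply, mul_zero]
  rw [bt, this]; rfl

theorem bt_smul (g : Co0) (x y : leechLattice) :
    bt ((g • x : leechLattice) : GolayPt → ℤ) ((g • y : leechLattice) : GolayPt → ℤ) = bt x y := by
  rw [bt, bt, co0_dotInt]

/-! ### codes -/

/-- bits of `x` with the vectors coded by the list -/
def cdL (x : GolayPt → ℤ) : List ℕ → ℕ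
  | [] => 0
  | c :: l => Nat.bit (bt (vec c) x) (cdL x l)

/-- kernel version -/
def cdc (b : ℕ) : List ℕ → ℕ
  | [] => 0
  | c :: l => cond (btc c b) 1 0 + 2 * cdc b l

theorem cdc_eq (b : ℕ) (l : List ℕ) : cdc b l = cdL (vec b) l := by
  induction l with
  | nil => rfl
  | cons c l ih =>
    rw [cdc, cdL, ih, btc_eq, Nat.bit_val, add_comm]
    cases bt (vec c) (vec b) <;> rfl

theorem cdL_lt (x : GolayPt → ℤ) (l : List ℕ) : cdL x l < 2 ^ l.length := by
  induction l with
  | nil => exact Nat.one_pos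
  | cons c l ih =>
    rw [cdL, List.length_cons, pow_succ, Nat.bit_val]
    cases bt (vec c) x <;> simp <;> omega

theorem cdL_add {l : List ℕ} (hl : ∀ c ∈ l, vec c ∈ leechLattice) {x y : GolayPt → ℤ} (hx : x ∈ leechLattice)
    (hy : y ∈ leechLattice) : cdL (x + y) l = cdL x l ^^^ cdL y l := by
  induction l with
  | nil => exact (Nat.xor_zero 0).symm
  | cons c l ih =>
    rw [cdL, cdL, cdL, ih fun d hd => hl d (List.mem_cons_of_mem _ hd), bt_add (hl c List.mem_cons_self) hx hy,
      Nat.xor_bit]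

theorem cdL_neg {l : List ℕ} (hl : ∀ c ∈ l, vec c ∈ leechLattice) {x : GolayPt → ℤ} (hx : x ∈ leechLattice) :
    cdL (-x) l = cdL x l := by
  induction l with
  | nil => rfl
  | cons c l ih =>
    rw [cdL, cdL, ih fun d hd => hl d (List.mem_cons_of_mem _ hd), bt_neg (hl c List.mem_cons_self) hx]

theorem cdL_zero (l : List ℕ) : cdL 0 l = 0 := by
  induction l with
  | nil => rfl
  | cons c l ih => rw [cdL, bt_zero, ih]; rfl

/-- the code of a vector -/
def cdv (x : GolayPt → ℤ) : ℕ := cdL x del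

theorem del_mem : ∀ c ∈ del, vec c ∈ leechLattice := by
  have h : ∀ c ∈ del, isLeech c = true := by decide +kernel
  exact fun c hc => isLeech_sound (h c hc)

theorem cdv_lt (x : GolayPt → ℤ) : cdv x < 2 ^ 22 := cdL_lt x del

theorem cdv_add {x y : GolayPt → ℤ} (hx : x ∈ leechLattice) (hy : y ∈ leechLattice) :
    cdv (x + y) = cdv x ^^^ cdv y := cdL_add del_mem hx hy

theorem cdv_neg {x : GolayPt → ℤ} (hx : x ∈ leechLattice) : cdv (-x) = cdv x := cdL_neg del_mem hx

theorem coe_U : ((Spor.leechU : leechLattice) : GolayPt → ℤ) = vec (cA 0) := by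
  have h : ∀ p, Spor.vecU p = vec (cA 0) p := by decide +kernel
  exact funext h

theorem cdv_U : cdv (Spor.leechU : leechLattice) = 0 := by
  rw [coe_U, cdv, ← cdc_eq]
  decide +kernel

/-- both vectors of a pair have the same code -/
theorem cdv_U_sub {x : GolayPt → ℤ} (hx : x ∈ leechLattice) :
    cdv (((Spor.leechU : leechLattice) : GolayPt → ℤ) - x) = cdv x := by
  rw [sub_eq_add_neg, cdv_add (Spor.leechU : leechLattice).2 (neg_mem hx), cdv_neg hx, cdv_U, Nat.zero_xor]

/-! ### the generators -/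

theorem rep_ok : ∀ t, checkRep 8 (cols t) (ims t) = true
  | 0 => by decide +kernel
  | 1 => by decide +kernel
  | _ + 2 => by
    show checkRep 8 cols2 ims2 = true
    decide +kernel

/-- the generator in `Co0` -/
noncomputable def gg (t : ℕ) : Co0 := (exists_rep (rep_ok t)).choose

theorem gg_rep (t : ℕ) : Rep 8 (cols t) (gg t) := (exists_rep (rep_ok t)).choose_spec

/-- the matrix is symmetric -/
def sym (A : List ℕ) : Bool := allTo (fun j => allTo (fun k => sdig (A.getD j 0) k == sdig (A.getD k 0) j) 24) 24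

theorem sym_ok : ∀ t, sym (cols t) = true
  | 0 => by decide +kernel
  | 1 => by decide +kernel
  | _ + 2 => by
    show sym cols2 = true
    decide +kernel

theorem fix_ok : ∀ t, fixes 8 (cols t) [cA 0] = true
  | 0 => by decide +kernel
  | 1 => by decide +kernel
  | _ + 2 => by
    show fixes 8 cols2 [cA 0] = true
    decide +kernel

theorem mv_smul' (A : List ℕ) (c : ℤ) (x : GolayPt → ℤ) : mv A (c • x) = c • mv A x := by
  funext i
  show ∑ j, (c • x) j * _ = c • ∑ j, x j * _
  rw [smul_eq_mul, Finset.mul_sum]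
  exact Finset.sum_congr rfl fun j _ => by rw [Pi.smul_apply, smul_eq_mul]; ring

/-- a symmetric orthogonal matrix is an involution -/
theorem mv_mv {d : ℕ} {A : List ℕ} (hs : sym A = true) (ho : orth d A = true) (x : GolayPt → ℤ) :
    mv A (mv A x) = (d : ℤ) ^ 2 • x := by
  have hs' : ∀ j k : GolayPt, vec (A.getD (pos j) 0) k = vec (A.getD (pos k) 0) j := by
    intro j k
    rw [sym, allTo_iff] at hs
    have h1 := hs (pos j) (pos_lt j)
    rw [allTo_iff] at h1
    have h2 := h1 (pos k) (pos_lt k)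
    rw [beq_iff_eq] at h2
    exact h2
  rw [orth, allTo_iff] at ho
  have h' : ∀ j k : GolayPt, ∑ i, vec (A.getD (pos j) 0) i * vec (A.getD (pos k) 0) i
      = if j = k then (d : ℤ) ^ 2 else 0 := by
    intro j k
    have h1 := ho (pos j) (pos_lt j)
    rw [allTo_iff] at h1
    have h2 := h1 (pos k) (pos_lt k)
    rw [beq_iff_eq, dotc_eq] at h2
    have h3 : (pos j = pos k) ↔ (j = k) := ⟨pos_inj, fun h => by rw [h]⟩
    simp only [h3] at h2
    exact h2
  funext i
  show ∑ j, (∑ k, x k * vec (A.getD (pos k) 0) j) * vec (A.getD (pos j) 0) i = ((d : ℤ) ^ 2 • x) i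
  have e1 : ∀ j, (∑ k, x k * vec (A.getD (pos k) 0) j) * vec (A.getD (pos j) 0) i =
      ∑ k, x k * (vec (A.getD (pos k) 0) j * vec (A.getD (pos i) 0) j) := by
    intro j
    rw [Finset.sum_mul]
    exact Finset.sum_congr rfl fun k _ => by rw [hs' j i]; ring
  rw [Finset.sum_congr rfl fun j _ => e1 j, Finset.sum_comm]
  have e2 : ∀ k, ∑ j, x k * (vec (A.getD (pos k) 0) j * vec (A.getD (pos i) 0) j) =
      if k = i then (d : ℤ) ^ 2 * x k else 0 := by
    intro k
    rw [← Finset.mul_sum, h' k i]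
    split <;> ring
  rw [Finset.sum_congr rfl fun k _ => e2 k, Finset.sum_ite_eq']
  simp

theorem gg_sq (t : ℕ) : gg t * gg t = 1 := by
  have ho : orth 8 (cols t) = true := by
    have := rep_ok t
    rw [checkRep, checkMat, Bool.and_eq_true, Bool.and_eq_true, Bool.and_eq_true] at this
    exact this.1.1.2
  have key : ∀ x : leechLattice, gg t • gg t • x = x := by
    intro x
    have h1 := (gg_rep t).2.2.2 x
    have h2 := (gg_rep t).2.2.2 (gg t • x)
    have h3 := mv_mv (sym_ok t) ho (x : GolayPt → ℤ)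
    rw [h1, mv_smul', h2] at h3
    apply Subtype.ext
    funext p
    have h4 := congrFun h3 p
    simp only [Pi.smul_apply, smul_eq_mul] at h4
    push_cast at h4
    nlinarith
  apply Subtype.ext
  apply Equiv.ext
  intro x
  exact key x

theorem gg_U (t : ℕ) : gg t • Spor.leechU = Spor.leechU :=
  fixes_sound (gg_rep t) (fix_ok t) List.mem_cons_self coe_U (by
    rw [coe_U, sqNorm_eq_dotInt, ← dotc_eq]
    decide +kernel)

/-- the generators of `Co2` -/
noncomputable def tt (t : ℕ) : Spor.Co2 := ⟨((gg t : Co0) : Equiv.Perm leechLattice), (gg t).2, gg_U t⟩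

theorem tt_smul (t : ℕ) (x : leechLattice) : tt t • x = gg t • x := rfl

theorem tt_sq (t : ℕ) : tt t * tt t = 1 := by
  apply Subtype.ext
  exact congrArg (fun g : Co0 => (g : Equiv.Perm leechLattice)) (gg_sq t)

/-! ### action on codes -/

/-- `g` maps the vectors coded by the first list to those coded by the second one -/
def mapsL (A : List ℕ) : List ℕ → List ℕ → Bool
  | [], [] => true
  | c :: l, y :: m => (appc A c == (8 : ℤ) * val y) && Nat.blt y (32 ^ 24) && decide (dotc c c ≤ 225) && isLeech c &&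
      mapsL A l m
  | _, _ => false

theorem maps_ok : ∀ t, mapsL (cols t) del (ys t) = true
  | 0 => by decide +kernel
  | 1 => by decide +kernel
  | _ + 2 => by
    show mapsL cols2 del ys2 = true
    decide +kernel

theorem cdL_maps {A : List ℕ} {g : Co0} (hr : Rep 8 A g) : ∀ {l m : List ℕ}, mapsL A l m = true → ∀ x : leechLattice,
    cdL ((g • x : leechLattice) : GolayPt → ℤ) m = cdL x l
  | [], [], _, _ => rfl
  | [], _ :: _, h, _ => absurd h Bool.false_ne_true
  | _ :: _, [], h, _ => absurd h Bool.false_ne_true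
  | c :: l, y :: m, h, x => by
    rw [mapsL, Bool.and_eq_true, Bool.and_eq_true, Bool.and_eq_true, Bool.and_eq_true, beq_iff_eq, Nat.blt_eq,
      decide_eq_true_iff] at h
    obtain ⟨⟨⟨⟨h1, h2⟩, h3⟩, h4⟩, h5⟩ := h
    have h6 : ((g • (⟨vec c, isLeech_sound h4⟩ : leechLattice) : leechLattice) : GolayPt → ℤ) = vec y :=
      hr.step rfl (by
        rw [sqNorm_eq_dotInt, ← dotc_eq]
        exact h3) h2 (by
        rw [h1]; rfl)
    rw [cdL, cdL, cdL_maps hr h5 x, ← h6, bt_smul]

/-- check of the matrix modulo two -/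
noncomputable def chkG (G ys : List ℕ) (e : ℕ) : List ℕ → Bool
  | [] => true
  | b :: l => Nat.beq (cdc b ys) (Nat.xor (linL G (cdc b del)) (cond (btc (cA 0) b) e 0)) && chkG G ys e l

theorem chkG_ok : ∀ t, chkG (Gt t) (ys t) (es t) genCodes = true
  | 0 => by decide +kernel
  | 1 => by decide +kernel
  | _ + 2 => by
    show chkG G2 ys2 2854456 genCodes = true
    decide +kernel

theorem genCodes_mem : ∀ b ∈ genCodes, vec b ∈ leechLattice := by
  have h : ∀ b ∈ genCodes, isLeech b = true := by decide +kernel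
  exact fun b hb => isLeech_sound (h b hb)

theorem chkG_sound {G ys : List ℕ} {e : ℕ} : ∀ {l : List ℕ}, chkG G ys e l = true → ∀ b ∈ l,
    cdL (vec b) ys = linL G (cdv (vec b)) ^^^ (cond (bt (vec (cA 0)) (vec b)) e 0)
  | [], _, b, hb => absurd hb List.not_mem_nil
  | c :: l, h, b, hb => by
    rw [chkG, Bool.and_eq_true] at h
    rcases List.mem_cons.1 hb with rfl | hb
    · have := Nat.eq_of_beq_eq_true h.1
      rw [cdc_eq, cdc_eq, btc_eq] at this
      exact this
    · exact chkG_sound h.2 b hb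

theorem ys_mem (t : ℕ) : ∀ c ∈ ys t, vec c ∈ leechLattice := by
  have h : ∀ {l m : List ℕ}, mapsL (cols t) l m = true → ∀ c ∈ m, vec c ∈ leechLattice := by
    intro l
    induction l with
    | nil =>
      intro m h c hc
      cases m with
      | nil => exact absurd hc List.not_mem_nil
      | cons y m => exact absurd h Bool.false_ne_true
    | cons d l ih =>
      intro m h c hc
      cases m with
      | nil => exact absurd hc List.not_mem_nil
      | cons y m =>
        rw [mapsL, Bool.and_eq_true, Bool.and_eq_true, Bool.and_eq_true, Bool.and_eq_true, beq_iff_eq, Nat.blt_eq,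
          decide_eq_true_iff] at h
        obtain ⟨⟨⟨⟨h1, h2⟩, h3⟩, h4⟩, h5⟩ := h
        rcases List.mem_cons.1 hc with rfl | hc
        · have h6 : ((gg t • (⟨vec d, isLeech_sound h4⟩ : leechLattice) : leechLattice) : GolayPt → ℤ) = vec c :=
            (gg_rep t).step rfl (by
              rw [sqNorm_eq_dotInt, ← dotc_eq]
              exact h3) h2 (by
              rw [h1]; rfl)
          rw [← h6]
          exact Subtype.prop _
        · exact ih h5 c hc
  exact h (maps_ok t)

/-- the identity on the whole lattice -/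
theorem cdL_ys (t : ℕ) {x : GolayPt → ℤ} (hx : x ∈ leechLattice) :
    cdL x (ys t) = linL (Gt t) (cdv x) ^^^ (cond (bt (vec (cA 0)) x) (es t) 0) := by
  have hU : vec (cA 0) ∈ leechLattice := coe_U ▸ (Spor.leechU : leechLattice).2
  let S : AddSubgroup (GolayPt → ℤ) :=
    { carrier := {x | x ∈ leechLattice ∧ cdL x (ys t) = linL (Gt t) (cdv x) ^^^ (cond (bt (vec (cA 0)) x) (es t) 0)}
      zero_mem' := ⟨leechLattice.zero_mem, by
        rw [cdL_zero, cdv, cdL_zero, linL_zero, bt_zero, cond_false, Nat.xor_zero]⟩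
      add_mem' := by
        rintro x y ⟨hx, h1⟩ ⟨hy, h2⟩
        refine ⟨leechLattice.add_mem hx hy, ?_⟩
        rw [cdL_add (ys_mem t) hx hy, h1, h2, cdv_add hx hy, linL_xor, bt_add hU hx hy]
        generalize linL (Gt t) (cdv x) = a
        generalize linL (Gt t) (cdv y) = b
        generalize es t = e
        apply Nat.eq_of_testBit_eq
        intro k
        cases bt (vec (cA 0)) x <;> cases bt (vec (cA 0)) y <;>
          simp only [Bool.xor_false, Bool.xor_true, Bool.not_false, Bool.not_true, cond_true, cond_false, Nat.xor_zero,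
            Nat.testBit_xor] <;> cases a.testBit k <;> cases b.testBit k <;> cases e.testBit k <;> rfl
      neg_mem' := by
        rintro x ⟨hx, h1⟩
        refine ⟨leechLattice.neg_mem hx, ?_⟩
        rw [cdL_neg (ys_mem t) hx, h1, cdv_neg hx, bt_neg hU hx] }
  have hle : leechLattice ≤ S := leech_le' S fun b hb => ⟨genCodes_mem b hb, chkG_sound (chkG_ok t) b hb⟩
  exact (hle hx).2

/-- **the generators act on codes by the matrices** -/
theorem cdv_tt (t : ℕ) (x : leechLattice) (hx : (16 : ℤ) ∣ dotInt (Spor.leechU : leechLattice) (x : GolayPt → ℤ)) :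
    cdv ((tt t • x : leechLattice) : GolayPt → ℤ) = linL (Gt t) (cdv x) := by
  have h1 : cdv ((gg t • x : leechLattice) : GolayPt → ℤ) = cdL (x : GolayPt → ℤ) (ys t) := by
    have h2 := cdL_maps (gg_rep t) (maps_ok t) (gg t • x)
    have h3 : gg t • gg t • x = x := by rw [← mul_smul, gg_sq, one_smul]
    rw [h3] at h2
    exact h2.symm
  rw [tt_smul, h1, cdL_ys t x.2, ← coe_U]
  have h4 : bt ((Spor.leechU : leechLattice) : GolayPt → ℤ) x = false := by
    rw [bt, decide_eq_false_iff_not]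
    omega
  rw [h4, cond_false, Nat.xor_zero]

end Cfsg.Agent.H612.CoT.Gens
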