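import Cfsg.Agent.H633.Ore.Co2Chk
import Cfsg.Agent.H570.Ore.Ext

/-!
# The nontrivial irreducible characters of `Co2` have degree at least 23 (helper612)

`t` (class 2A) and `s` (class 2B) are two of the three generators.  `χ(t) = n - 32 k`, `χ(s) = n - 16 l` with `k, l ≥ 1`
(`a` commuting involutions, `b` with `b_j a_i b_j⁻¹ = a_i t^(δ_ij)`), and the elementary abelian group `U = ⟨t⟩ × F` of
order 16 with 7 elements of the class of `s` in `F` and the 8 elements of `t F` in the class of `t` gives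
`n - 7 l - 16 k ≥ 0`.  All relations are checked on the 22-dimensional matrices of the words (`H633.Ore.Co2`).
-/

set_option autoImplicit false
set_option maxRecDepth 100000

open Cfsg

namespace Cfsg.Agent.H612.CoT.MinDeg

open Cfsg.Agent.H633.Ore Cfsg.Agent.H633.Ore.Co2 Cfsg.Agent.Characters.Core

/-! ### data -/

/-- the words -/
def ws : List (List ℕ) := [
  [0],
  [2],
  [1, 0, 2, 1, 0, 2, 0, 1, 0, 1, 0, 2, 1, 0, 2, 0, 1, 2, 0, 1, 0, 1, 0, 2, 0, 1, 2, 0, 1],
  [2, 1, 2, 1, 0, 1, 0, 2, 1, 0, 1, 0, 2, 1, 2, 1, 2, 0, 1, 0, 1, 2, 0, 1, 0, 1, 2, 1, 2],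
  [1, 2, 1, 2, 0, 2, 1, 0, 1, 2, 0, 2, 0, 1, 2, 1, 0, 2, 0, 2, 1, 0, 1, 2, 0, 2, 1, 2, 1],
  [2, 1, 2, 1, 0, 1, 0, 2, 1, 0, 2, 1, 0, 1, 2, 1, 0, 2, 0, 1, 2, 1, 0, 1, 2, 0, 1, 2, 0, 1, 0, 1, 2, 1, 2],
  [1, 2, 0, 2, 0, 1, 0, 1, 2, 1, 0, 2, 1, 0, 2, 0, 1, 2, 0, 1, 2, 1, 0, 1, 0, 2, 0, 2, 1],
  [2, 1, 0, 2, 1, 0, 2, 0, 1, 2, 1, 0, 1, 0, 1, 2, 0, 2, 0, 2, 1, 0, 1, 0, 1, 2, 1, 0, 2, 0, 1, 2, 0, 1, 2],
  [2, 0, 1, 2, 0, 1, 2, 1, 2, 1, 0, 2, 1, 2, 0, 2, 0, 1, 2, 1, 0, 2, 0, 2, 1, 2, 0, 1, 2, 1, 2, 1, 0, 2, 1, 0, 2],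
  [2, 1, 0, 2, 1, 2, 1, 0, 2, 1, 2, 1, 0, 2, 1, 2, 1, 0, 2, 0, 1, 2, 1, 2, 0, 1, 2, 1, 2, 0, 1, 2, 1, 2, 0, 1, 2],
  [0, 2, 0, 2, 0],
  [0, 2, 1, 0, 2, 1, 2, 1, 2, 1, 0, 1, 0, 1, 0, 1, 2, 1, 2, 1, 2, 0, 1, 2, 0],
  [1, 2, 1, 2, 1, 0, 2, 0, 2, 0, 1, 2, 1, 2, 1],
  [1, 2, 1, 0, 2, 1, 2, 1, 2, 0, 1, 2, 1],
  [1, 2, 0, 2, 0, 2, 0, 1, 2, 1, 0, 2, 0, 2, 0, 2, 1],
  [1, 2, 0, 2, 1, 2, 1, 2, 0, 2, 1],
  [0, 1, 0, 1, 0, 1, 0, 1],
  [0, 2, 0, 2, 0, 2, 1, 0, 1, 0, 1, 0, 1, 2, 0, 2, 0, 2],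
  [0, 2, 1, 0, 1, 0, 1, 0, 1, 2, 0, 2, 1, 0, 1, 0, 1, 0, 1, 2],
  [2, 1, 0, 1, 0, 2, 0, 1, 0, 1, 2, 0, 2, 1, 0, 1],
  [2, 0, 2, 1, 0, 1, 2, 1, 0, 1, 0, 2, 0, 2, 0, 1, 0, 1, 0],
  [2, 1, 2, 1, 2, 0, 2, 1, 2, 1, 0],
  [1, 2, 1, 2, 0, 1, 0, 1, 2, 0, 2, 0, 1, 2, 1, 0, 1, 0, 2, 0, 1],
  [2, 1, 0, 1, 2, 0, 1, 0, 1, 2, 0, 2, 1, 0, 1],
  [2, 0, 1, 0, 1, 2, 0, 2, 0, 2, 1, 0, 1, 2, 1, 0, 1, 2, 0],
  [2, 1, 2, 1, 2, 0, 2, 0, 1, 2, 1, 0, 2, 1, 2, 0, 2, 0, 2, 1, 2, 0, 1],
  [1, 0, 1],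
  [2, 0, 2, 0, 2, 1, 0, 1],
  [1, 0, 1, 2, 0, 2, 0, 2, 1, 0, 1],
  [2, 1, 0, 1, 0, 1, 0, 1, 2],
  [1, 0, 1, 2, 1, 0, 1, 0, 1, 0, 1, 2],
  [1, 0, 1, 2, 0, 2, 1, 0, 1, 0, 1, 0, 1, 0, 2],
  [2, 0, 2, 1, 0, 1, 0, 1, 0, 1, 0, 2]]

/-- the relations -/
def rels : List (List ℕ × List ℕ) := [
  ([0, 0], []),
  ([1, 1], []),
  ([2, 2], []),
  ([3, 3], []),
  ([4, 4], []),
  ([5, 5], []),
  ([2, 0], [0, 2]),
  ([3, 0], [0, 3]),
  ([4, 0], [0, 4]),
  ([5, 0], [0, 5]),
  ([2, 3], [3, 2]),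
  ([2, 4], [4, 2]),
  ([2, 5], [5, 2]),
  ([3, 4], [4, 3]),
  ([3, 5], [5, 3]),
  ([4, 5], [5, 4]),
  ([6, 2], [2, 0, 6]),
  ([6, 3], [3, 6]),
  ([6, 4], [4, 6]),
  ([6, 5], [5, 6]),
  ([7, 2], [2, 7]),
  ([7, 3], [3, 0, 7]),
  ([7, 4], [4, 7]),
  ([7, 5], [5, 7]),
  ([8, 2], [2, 8]),
  ([8, 3], [3, 8]),
  ([8, 4], [4, 0, 8]),
  ([8, 5], [5, 8]),
  ([9, 2], [2, 9]),
  ([9, 3], [3, 9]),
  ([9, 4], [4, 9]),
  ([9, 5], [5, 0, 9]),
  ([10, 10], []),
  ([11, 11], []),
  ([12, 12], []),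
  ([10, 1], [1, 10]),
  ([11, 1], [1, 11]),
  ([12, 1], [1, 12]),
  ([10, 11], [11, 10]),
  ([10, 12], [12, 10]),
  ([11, 12], [12, 11]),
  ([13, 10], [10, 1, 13]),
  ([13, 11], [11, 13]),
  ([13, 12], [12, 13]),
  ([14, 10], [10, 14]),
  ([14, 11], [11, 1, 14]),
  ([14, 12], [12, 14]),
  ([15, 10], [10, 15]),
  ([15, 11], [11, 15]),
  ([15, 12], [12, 1, 15]),
  ([16, 16], []),
  ([17, 17], []),
  ([18, 18], []),
  ([16, 0], [0, 16]),
  ([17, 0], [0, 17]),
  ([18, 0], [0, 18]),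
  ([16, 17], [17, 16]),
  ([16, 18], [18, 16]),
  ([17, 18], [18, 17]),
  ([19, 1], [16, 19]),
  ([20, 1], [17, 20]),
  ([21, 1], [16, 17, 21]),
  ([22, 1], [18, 22]),
  ([23, 1], [16, 18, 23]),
  ([24, 1], [17, 18, 24]),
  ([25, 1], [16, 17, 18, 25]),
  ([26, 0], [0, 16, 26]),
  ([27, 0], [0, 17, 27]),
  ([28, 0], [0, 16, 17, 28]),
  ([29, 0], [0, 18, 29]),
  ([30, 0], [0, 16, 18, 30]),
  ([31, 0], [0, 17, 18, 31]),
  ([32, 0], [0, 16, 17, 18, 32])]

/-! ### the kernel check -/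

/-- equality of lists of numbers -/
noncomputable def beqL (l : List ℕ) : List ℕ → Bool :=
  List.rec (fun m => List.rec true (fun _ _ _ => false) m)
    (fun a _ ih m => List.rec false (fun b m' _ => cond (Nat.beq a b) (ih m') false) m) l

theorem eq_of_beqL : ∀ {l m : List ℕ}, beqL l m = true → l = m
  | [], [], _ => rfl
  | [], _ :: _, h => by exact absurd h Bool.false_ne_true
  | _ :: _, [], h => by exact absurd h Bool.false_ne_true
  | a :: l, b :: m, h => by
    have h' : cond (Nat.beq a b) (beqL l m) false = true := h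
    cases hab : Nat.beq a b
    · rw [hab] at h'; exact absurd h' Bool.false_ne_true
    · rw [hab] at h'
      rw [Nat.eq_of_beq_eq_true hab, eq_of_beqL (l := l) (m := m) h']

/-- the matrices of the words, evaluated -/
noncomputable def mats {β : Sort _} (ws : List (List ℕ)) : (List (List ℕ) → β) → β :=
  List.rec (fun k => k []) (fun w _ ih k => wmF w ID22 fun L => ih fun Ls => k (L :: Ls)) ws

theorem mats_eq {β : Sort _} (ws : List (List ℕ)) (k : List (List ℕ) → β) :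
    mats ws k = k (ws.map fun w => wm w ID22) := by
  induction ws generalizing k with
  | nil => rfl
  | cons w ws ih =>
    show wmF w ID22 (fun L => mats ws fun Ls => k (L :: Ls)) = _
    rw [wmF_eq, ih]
    rfl

/-- a product, evaluated -/
noncomputable def prodF {β : Sort _} (Ls : List (List ℕ)) (u : List ℕ) : (List ℕ → β) → β :=
  List.rec (fun k => k ID22) (fun i _ ih k => ih fun B => mapF (linL (nthL Ls i)) B k) u

/-- a product -/
noncomputable def prodM (Ls : List (List ℕ)) : List ℕ → List ℕ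
  | [] => ID22
  | i :: u => (prodM Ls u).map (linL (nthL Ls i))

theorem prodF_eq {β : Sort _} (Ls : List (List ℕ)) (u : List ℕ) (k : List ℕ → β) : prodF Ls u k = k (prodM Ls u) := by
  induction u generalizing k with
  | nil => rfl
  | cons i u ih =>
    show prodF Ls u (fun B => mapF (linL (nthL Ls i)) B k) = _
    rw [ih, mapF_eq]
    rfl

/-- test of a relation -/
noncomputable def relT (Ls : List (List ℕ)) (r : List ℕ × List ℕ) : Bool :=
  cond (allLt 33 r.1) (cond (allLt 33 r.2) (prodF Ls r.1 fun X => prodF Ls r.2 fun Y => beqL X Y) false) false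

noncomputable def relAll (Ls : List (List ℕ)) (rs : List (List ℕ × List ℕ)) : Bool :=
  List.rec true (fun r _ ih => cond (relT Ls r) ih false) rs

theorem rel_ok : mats ws (fun Ls => relAll Ls rels) = true := by decide +kernel

theorem ws_length : ws.length = 33 := by decide

/-- the elements -/
noncomputable def el (i : ℕ) : Spor.Co2 := wd (ws.getD i [])

/-- the products -/
noncomputable def pe (u : List ℕ) : Spor.Co2 := (u.map el).prod

theorem pe_nil : pe [] = 1 := rfl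

theorem pe_cons (i : ℕ) (u : List ℕ) : pe (i :: u) = el i * pe u := by rw [pe, List.map_cons, List.prod_cons]; rfl

theorem rp_prodM : ∀ u : List ℕ, (∀ i ∈ u, i < 33) → M.Rp (prodM (ws.map fun w => wm w ID22) u) (pe u)
  | [], _ => rp_one
  | i :: u, h => by
    rw [pe_cons]
    refine Mdl.Rp.mul M ?_ (rp_prodM u fun j hj => h j (List.mem_cons_of_mem _ hj))
    have hi : i < ws.length := by rw [ws_length]; exact h i List.mem_cons_self
    have e : nthL (ws.map fun w => wm w ID22) i = wm (ws.getD i []) ID22 := by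
      rw [nthL_eq, List.getD_eq_getElem _ _ (by rw [List.length_map]; exact hi), List.getElem_map,
        List.getD_eq_getElem _ _ hi]
    rw [e, ID22_eq]
    exact rp_wd _

theorem rel {u v : List ℕ} (h : (u, v) ∈ rels) : pe u = pe v := by
  have key : ∀ (Ls : List (List ℕ)) (rs : List (List ℕ × List ℕ)), relAll Ls rs = true → ∀ r ∈ rs, relT Ls r = true := by
    intro Ls rs
    induction rs with
    | nil => intro _ r hr; exact absurd hr List.not_mem_nil
    | cons s rs ih =>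
      intro h r hr
      have h' : cond (relT Ls s) (relAll Ls rs) false = true := h
      cases h1 : relT Ls s
      · rw [h1] at h'; exact absurd h' Bool.false_ne_true
      · rw [h1] at h'
        rcases List.mem_cons.1 hr with h2 | h2
        · rw [h2]; exact h1
        · exact ih h' r h2
  have h0 := rel_ok
  rw [mats_eq] at h0
  have h1 := key _ _ h0 _ h
  unfold relT at h1
  cases h2 : allLt 33 u
  · rw [h2] at h1; exact absurd h1 Bool.false_ne_true
  rw [h2, cond_true] at h1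
  cases h3 : allLt 33 v
  · rw [h3] at h1; exact absurd h1 Bool.false_ne_true
  rw [h3, cond_true, prodF_eq, prodF_eq] at h1
  have h4 := rp_prodM u (allLt_iff h2)
  rw [eq_of_beqL h1] at h4
  exact eq_of_rp h4 (rp_prodM v (allLt_iff h3))

theorem conj_of_rel {g s : ℕ} {u : List ℕ} (h : ([g, s], u ++ [g]) ∈ rels) : IsConj (el s) (pe u) := by
  have h1 := rel h
  have h2 : pe (u ++ [g]) = pe u * el g := by
    rw [pe, List.map_append, List.prod_append]
    show pe u * (el g * 1) = _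
    rw [mul_one]
  rw [h2, pe_cons, pe_cons, pe_nil, mul_one] at h1
  exact isConj_iff.2 ⟨el g, by rw [h1]; group⟩

theorem ne_one {k : ℕ} (hk : Nat.beq (linL (GG k) 1) 1 = false) : tt k ≠ 1 := by
  intro h
  obtain ⟨y, hy⟩ := M.idx_surj 0 (by show 0 < 2300; norm_num)
  have hy1 : M.cd y = 1 := by
    rw [← M.ent_idx, hy]
    exact ent_zero
  have h1 := rpG k y
  rw [h, one_smul, hy1] at h1
  rw [← h1] at hk
  exact absurd hk (by decide)

theorem el_zero : el 0 = tt 0 := by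
  show (([0] : List ℕ).map tt).prod = _
  simp

theorem el_one : el 1 = tt 2 := by
  show (([2] : List ℕ).map tt).prod = _
  simp

/-! ### homomorphisms from elementary abelian groups -/

section

variable {G : Type} [Group G]

/-- the homomorphism of an involution -/
noncomputable def inv1 (a : G) (h : a * a = 1) : ℤˣ →* G where
  toFun x := if x = 1 then 1 else a
  map_one' := if_pos rfl
  map_mul' x y := by
    have hne : ¬ ((-1 : ℤˣ) = 1) := by decide
    rcases Int.units_eq_one_or x with rfl | rfl <;> rcases Int.units_eq_one_or y with rfl | rfl <;> simp [h, hne]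

theorem inv1_one (a : G) (h : a * a = 1) : inv1 a h 1 = 1 := map_one _

theorem inv1_neg (a : G) (h : a * a = 1) : inv1 a h (-1) = a := by
  show (if (-1 : ℤˣ) = 1 then 1 else a) = a
  exact if_neg (by decide)

theorem commute_inv1 {a c : G} (h : a * a = 1) (hc : Commute c a) (x : ℤˣ) : Commute c (inv1 a h x) := by
  rcases Int.units_eq_one_or x with rfl | rfl
  · rw [inv1_one]; exact Commute.one_right c
  · rw [inv1_neg]; exact hc

variable {A : Type} [Group A]

/-- the extension by an involution -/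
noncomputable def ext (f : A →* G) (a : G) (h : a * a = 1) (hc : ∀ x, Commute a (f x)) : ℤˣ × A →* G :=
  (inv1 a h).noncommCoprod f fun x y => (commute_inv1 h (hc y).symm x).symm

theorem ext_apply (f : A →* G) (a : G) (h : a * a = 1) (hc : ∀ x, Commute a (f x)) (x : ℤˣ) (y : A) :
    ext f a h hc (x, y) = inv1 a h x * f y := rfl

theorem commute_ext {f : A →* G} {a : G} {h : a * a = 1} {hc : ∀ x, Commute a (f x)} {c : G} (h1 : Commute c a)
    (h2 : ∀ x, Commute c (f x)) (x : ℤˣ × A) : Commute c (ext f a h hc x) :=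
  (commute_inv1 h h1 x.1).mul_right (h2 x.2)

/-- all `f x`, `x ≠ 1`, are conjugate to `f x * z` by elements of `S` -/
structure Good (f : A →* G) (z : G) (S : List G) : Prop where
  comm : ∀ x, Commute z (f x)
  cj : ∀ x, x ≠ 1 → ∃ b ∈ S, SemiconjBy b (f x) (f x * z)

theorem Good.unit (z : G) : Good (1 : Unit →* G) z [] where
  comm _ := Commute.one_right z
  cj _ hx := absurd rfl hx

theorem Good.ext {f : A →* G} {z : G} {S : List G} (H : Good f z S) {a b : G} (h : a * a = 1)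
    (hc : ∀ x, Commute a (f x))
    (haz : Commute z a) (hb : SemiconjBy b a (a * z)) (hbf : ∀ x, Commute b (f x)) :
    Good (ext f a h hc) z (b :: S) where
  comm := commute_ext haz H.comm
  cj := by
    rintro ⟨x, y⟩ hxy
    rw [ext_apply]
    rcases Int.units_eq_one_or x with rfl | rfl
    · have hy : y ≠ 1 := fun h => hxy (by rw [h]; rfl)
      obtain ⟨c, hcS, hc'⟩ := H.cj y hy
      exact ⟨c, List.mem_cons_of_mem _ hcS, by rw [inv1_one, one_mul]; exact hc'⟩
    · refine ⟨b, List.mem_cons_self, ?_⟩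
      rw [inv1_neg]
      have h1 := hb.mul_right (hbf y)
      have h2 : a * z * f y = a * f y * z := by rw [mul_assoc, (H.comm y).eq, ← mul_assoc]
      rwa [h2] at h1

theorem Good.isConj {f : A →* G} {z : G} {S : List G} (H : Good f z S) (x : A) (hx : x ≠ 1) :
    IsConj (f x) (f x * z) := by
  obtain ⟨b, -, hb⟩ := H.cj x hx
  exact isConj_iff.2 ⟨b, by rw [hb.eq]; group⟩

end

/-! ### the group -/

theorem comm_of {a b : ℕ} (h : ([a, b], [b, a]) ∈ rels) : Commute (el a) (el b) := by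
  have h1 := rel h
  rw [pe_cons, pe_cons, pe_cons, pe_cons, pe_nil, mul_one, mul_one] at h1
  exact h1

theorem sq_of {a : ℕ} (h : ([a, a], []) ∈ rels) : el a * el a = 1 := by
  have h1 := rel h
  rwa [pe_cons, pe_cons, pe_nil, mul_one] at h1

theorem semi_of {a b z : ℕ} (h : ([b, a], [a, z, b]) ∈ rels) : SemiconjBy (el b) (el a) (el a * el z) := by
  have h1 := rel h
  rw [pe_cons, pe_cons, pe_cons, pe_cons, pe_cons, pe_nil, mul_one, mul_one, ← mul_assoc] at h1
  exact h1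

theorem comm_unit (c : Spor.Co2) (x : Unit) : Commute c ((1 : Unit →* Spor.Co2) x) := Commute.one_right c

/-- the four involutions for `t` -/
theorem exists_t (χ : IrrCharacter Spor.Co2) :
    ∃ k : ℤ, (χ : Spor.Co2 → ℂ) (el 0) = (charDegree (χ : Spor.Co2 → ℂ) : ℂ) - 32 * k := by
  have g0 := Good.unit (el 0)
  have c5 := comm_unit (el 5)
  have g1 := g0.ext (a := el 5) (b := el 9) (sq_of (by decide)) c5 (comm_of (a := 5) (b := 0) (by decide)).symm
    (semi_of (by decide)) (comm_unit _)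
  have c4 : ∀ x, Commute (el 4) (ext (1 : Unit →* Spor.Co2) (el 5) (sq_of (by decide)) c5 x) :=
    commute_ext (comm_of (by decide)) (comm_unit _)
  have g2 := g1.ext (a := el 4) (b := el 8) (sq_of (by decide)) c4 (comm_of (a := 4) (b := 0) (by decide)).symm
    (semi_of (by decide))
    (commute_ext (comm_of (by decide)) (comm_unit _))
  have c3 := commute_ext (h := sq_of (by decide)) (hc := c4) (c := el 3) (comm_of (a := 3) (b := 4) (by decide))
    (commute_ext (h := sq_of (by decide)) (hc := c5) (comm_of (a := 3) (b := 5) (by decide)) (comm_unit _))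
  have g3 := g2.ext (a := el 3) (b := el 7) (sq_of (by decide)) c3 (comm_of (a := 3) (b := 0) (by decide)).symm
    (semi_of (by decide))
    (commute_ext (comm_of (by decide)) (commute_ext (comm_of (by decide)) (comm_unit _)))
  have c2 := commute_ext (h := sq_of (by decide)) (hc := c3) (c := el 2) (comm_of (a := 2) (b := 3) (by decide))
    (commute_ext (h := sq_of (by decide)) (hc := c4) (comm_of (a := 2) (b := 4) (by decide))
      (commute_ext (h := sq_of (by decide)) (hc := c5) (comm_of (a := 2) (b := 5) (by decide)) (comm_unit _)))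
  have g4 := g3.ext (a := el 2) (b := el 6) (sq_of (by decide)) c2 (comm_of (a := 2) (b := 0) (by decide)).symm
    (semi_of (by decide))
    (commute_ext (comm_of (by decide)) (commute_ext (comm_of (by decide)) (commute_ext (comm_of (by decide))
      (comm_unit _))))
  obtain ⟨k, hk⟩ := H570.Ore.Ext.exists_k _ (z := el 0) (by rw [el_zero]; exact ne_one (by decide +kernel))
    (sq_of (by decide)) (fun x => (g4.comm x).symm.eq) (fun x hx => g4.isConj x hx) χ
  refine ⟨k, ?_⟩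
  rw [hk]
  have hc : Nat.card (ℤˣ × ℤˣ × ℤˣ × ℤˣ × Unit) = 16 := by
    rw [Nat.card_eq_fintype_card]
    decide
  rw [hc]
  push_cast
  ring

/-- the three involutions for `s` -/
theorem exists_s (χ : IrrCharacter Spor.Co2) :
    ∃ l : ℤ, (χ : Spor.Co2 → ℂ) (el 1) = (charDegree (χ : Spor.Co2 → ℂ) : ℂ) - 16 * l := by
  have g0 := Good.unit (el 1)
  have c5 := comm_unit (el 12)
  have g1 := g0.ext (a := el 12) (b := el 15) (sq_of (by decide)) c5 (comm_of (a := 12) (b := 1) (by decide)).symm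
    (semi_of (by decide)) (comm_unit _)
  have c4 : ∀ x, Commute (el 11) (ext (1 : Unit →* Spor.Co2) (el 12) (sq_of (by decide)) c5 x) :=
    commute_ext (comm_of (by decide)) (comm_unit _)
  have g2 := g1.ext (a := el 11) (b := el 14) (sq_of (by decide)) c4 (comm_of (a := 11) (b := 1) (by decide)).symm
    (semi_of (by decide))
    (commute_ext (comm_of (by decide)) (comm_unit _))
  have c3 := commute_ext (h := sq_of (by decide)) (hc := c4) (c := el 10) (comm_of (a := 10) (b := 11) (by decide))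
    (commute_ext (h := sq_of (by decide)) (hc := c5) (comm_of (a := 10) (b := 12) (by decide)) (comm_unit _))
  have g3 := g2.ext (a := el 10) (b := el 13) (sq_of (by decide)) c3 (comm_of (a := 10) (b := 1) (by decide)).symm
    (semi_of (by decide))
    (commute_ext (comm_of (by decide)) (commute_ext (comm_of (by decide)) (comm_unit _)))
  obtain ⟨k, hk⟩ := H570.Ore.Ext.exists_k _ (z := el 1) (by rw [el_one]; exact ne_one (by decide +kernel))
    (sq_of (by decide)) (fun x => (g3.comm x).symm.eq) (fun x hx => g3.isConj x hx) χ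
  refine ⟨k, ?_⟩
  rw [hk]
  have hc : Nat.card (ℤˣ × ℤˣ × ℤˣ × Unit) = 8 := by
    rw [Nat.card_eq_fintype_card]
    decide
  rw [hc]
  push_cast
  ring

theorem sum_units {f : ℤˣ → ℂ} : ∑ x : ℤˣ, f x = f 1 + f (-1) := by
  rw [(by decide : (Finset.univ : Finset ℤˣ) = {1, -1}), Finset.sum_pair (by decide)]

/-- the multiplicity of the trivial character of `U` -/
theorem exists_m (χ : IrrCharacter Spor.Co2) : ∃ m : ℕ, (charDegree (χ : Spor.Co2 → ℂ) : ℂ) +
    7 * (χ : Spor.Co2 → ℂ) (el 1) + 8 * (χ : Spor.Co2 → ℂ) (el 0) = m * 16 := by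
  have c4 := comm_unit (el 18)
  have c3 : ∀ x, Commute (el 17) (ext (1 : Unit →* Spor.Co2) (el 18) (sq_of (by decide)) c4 x) :=
    commute_ext (comm_of (by decide)) (comm_unit _)
  have c2 := commute_ext (h := sq_of (by decide)) (hc := c3) (c := el 16) (comm_of (a := 16) (b := 17) (by decide))
    (commute_ext (h := sq_of (by decide)) (hc := c4) (comm_of (a := 16) (b := 18) (by decide)) (comm_unit _))
  have c1 := commute_ext (h := sq_of (by decide)) (hc := c2) (c := el 0) (comm_of (a := 16) (b := 0) (by decide)).symm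
    (commute_ext (h := sq_of (by decide)) (hc := c3) (comm_of (a := 17) (b := 0) (by decide)).symm
      (commute_ext (h := sq_of (by decide)) (hc := c4) (comm_of (a := 18) (b := 0) (by decide)).symm (comm_unit _)))
  obtain ⟨m, hm⟩ := H570.Ore.Blk.exists_sum_hom χ (ext _ (el 0) (sq_of (by decide)) c1)
  have hc : Nat.card (ℤˣ × ℤˣ × ℤˣ × ℤˣ × Unit) = 16 := by
    rw [Nat.card_eq_fintype_card]
    decide
  rw [hc] at hm
  have hF : ∀ {g : ℕ} {u : List ℕ}, ([g, 1], u ++ [g]) ∈ rels → (χ : Spor.Co2 → ℂ) (pe u) = (χ : Spor.Co2 → ℂ) (el 1) :=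
    fun h => (H570.Ore.Ext.val_conj χ (conj_of_rel h)).symm
  have hT : ∀ {g : ℕ} {u : List ℕ}, ([g, 0], u ++ [g]) ∈ rels → (χ : Spor.Co2 → ℂ) (pe u) = (χ : Spor.Co2 → ℂ) (el 0) :=
    fun h => (H570.Ore.Ext.val_conj χ (conj_of_rel h)).symm
  have f1 := hF (g := 19) (u := [16]) (by decide)
  have f2 := hF (g := 20) (u := [17]) (by decide)
  have f3 := hF (g := 21) (u := [16, 17]) (by decide)
  have f4 := hF (g := 22) (u := [18]) (by decide)
  have f5 := hF (g := 23) (u := [16, 18]) (by decide)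
  have f6 := hF (g := 24) (u := [17, 18]) (by decide)
  have f7 := hF (g := 25) (u := [16, 17, 18]) (by decide)
  have t1 := hT (g := 26) (u := [0, 16]) (by decide)
  have t2 := hT (g := 27) (u := [0, 17]) (by decide)
  have t3 := hT (g := 28) (u := [0, 16, 17]) (by decide)
  have t4 := hT (g := 29) (u := [0, 18]) (by decide)
  have t5 := hT (g := 30) (u := [0, 16, 18]) (by decide)
  have t6 := hT (g := 31) (u := [0, 17, 18]) (by decide)
  have t7 := hT (g := 32) (u := [0, 16, 17, 18]) (by decide)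
  simp only [pe_cons, pe_nil, mul_one] at f1 f2 f3 f4 f5 f6 f7 t1 t2 t3 t4 t5 t6 t7
  simp only [Fintype.sum_prod_type, sum_units, ext_apply, inv1_one, inv1_neg, one_mul, MonoidHom.one_apply,
    Finset.univ_unique, Finset.sum_singleton, mul_one, f1, f2, f3, f4, f5, f6, f7, t1, t2, t3, t4, t5, t6, t7,
    H570.Ore.Blk.deg_cast] at hm
  refine ⟨m, ?_⟩
  push_cast at hm
  linear_combination hm

/-- **the nontrivial irreducible characters of `Co2` have degree at least 23** -/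
theorem deg_ge (χ : IrrCharacter Spor.Co2) (h : (χ : Spor.Co2 → ℂ) ≠ 1) : 23 ≤ charDegree (χ : Spor.Co2 → ℂ) := by
  have hs : IsSimpleGroup Spor.Co2 := Cfsg.Agent.Schreier.CoTwoStab.isSimpleGroup
  obtain ⟨k, hk⟩ := exists_t χ
  obtain ⟨l, hl⟩ := exists_s χ
  obtain ⟨m, hm⟩ := exists_m χ
  have hk1 : 1 ≤ k := H570.Ore.Ext.one_le h (z := el 0) (by rw [el_zero]; exact ne_one (by decide +kernel)) (c := 32) (by norm_num)
    (by rw [hk]; push_cast; ring)
  have hl1 : 1 ≤ l := H570.Ore.Ext.one_le h (z := el 1) (by rw [el_one]; exact ne_one (by decide +kernel)) (c := 16) (by norm_num)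
    (by rw [hl]; push_cast; ring)
  rw [hk, hl] at hm
  have h1 : ((charDegree (χ : Spor.Co2 → ℂ) + 7 * (charDegree (χ : Spor.Co2 → ℂ) - 16 * l) +
      8 * (charDegree (χ : Spor.Co2 → ℂ) - 32 * k) : ℤ) : ℂ) = ((m * 16 : ℤ) : ℂ) := by
    push_cast
    exact hm
  have h2 : (charDegree (χ : Spor.Co2 → ℂ) + 7 * (charDegree (χ : Spor.Co2 → ℂ) - 16 * l) +
      8 * (charDegree (χ : Spor.Co2 → ℂ) - 32 * k) : ℤ) = (m * 16 : ℤ) := by exact_mod_cast h1
  omega

end Cfsg.Agent.H612.CoT.MinDeg
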